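import Mathlib
import Cfsg.Prelude.Def_LieExceptional
import Cfsg.Prelude.Def_Classical

/-!
# The (B,N)-pair of the special unitary group of the antidiagonal hermitian form: definitions
(helper5, for S2546)

`F` a field, `σ : F →+* F` an involution (`σ (σ x) = x`), `n : ℕ`.  The form is
`hermJ σ u v = ∑ i, u i * σ (v (Fin.rev i))` on `Fin n → F` and `SUJ n σ` is the subgroup of `SL_n(F)` preserving it.
`Bsub` = upper triangular matrices of `SUJ`, `Tsub` = diagonal ones, `Usub` = upper unitriangular ones,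
`Mono` = monomial ones.
-/

set_option autoImplicit false

namespace Cfsg.Agent.Helper5.SuBN

open Matrix

variable {F : Type*} [Field F] {n : ℕ}

/-- the antidiagonal hermitian form -/
def hermJ (σ : F →+* F) (u v : Fin n → F) : F := ∑ i, u i * σ (v (Fin.rev i))

/-- the special unitary group of `hermJ σ` -/
def SUJ (n : ℕ) (σ : F →+* F) : Subgroup (Matrix.SpecialLinearGroup (Fin n) F) :=
  Cfsg.preserving (Cfsg.slToMat n F) (hermJ σ)

/-- the special unitary group as a type -/
abbrev UG (n : ℕ) (σ : F →+* F) := ↥(SUJ n σ)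

variable {σ : F →+* F}

/-- the matrix of an element -/
abbrev mat (g : UG n σ) : Matrix (Fin n) (Fin n) F := g.1.1

theorem mat_mul (g h : UG n σ) : mat (g * h) = mat g * mat h := rfl

theorem mat_one : mat (1 : UG n σ) = 1 := rfl

theorem mat_injective : Function.Injective (mat : UG n σ → Matrix (Fin n) (Fin n) F) :=
  fun _ _ h => Subtype.ext (Subtype.ext h)

theorem slToMat_apply (g : Matrix.SpecialLinearGroup (Fin n) F) :
    Cfsg.slToMat n F g = g.1 := rfl

theorem hermJ_single (a b : Fin n) (M : Matrix (Fin n) (Fin n) F) :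
    hermJ σ (M *ᵥ Pi.single a 1) (M *ᵥ Pi.single b 1) = ∑ i, M i a * σ (M (Fin.rev i) b) := by
  unfold hermJ
  apply Finset.sum_congr rfl
  intro i _
  simp [Matrix.mulVec_single]

theorem hermJ_single_single (a b : Fin n) :
    hermJ σ (Pi.single a (1 : F)) (Pi.single b 1) = if a = Fin.rev b then 1 else 0 := by
  unfold hermJ
  by_cases h : a = Fin.rev b
  · rw [if_pos h, Finset.sum_eq_single a]
    · rw [h, Fin.rev_rev]; simp
    · intro i _ hi
      rw [Pi.single_eq_of_ne hi, zero_mul]
    · intro hh; exact absurd (Finset.mem_univ _) hh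
  · rw [if_neg h]
    apply Finset.sum_eq_zero
    intro i _
    by_cases hi : i = a
    · subst hi
      have : Fin.rev i ≠ b := fun h' => h (by rw [← h', Fin.rev_rev])
      rw [Pi.single_eq_of_ne this, map_zero, mul_zero]
    · rw [Pi.single_eq_of_ne hi, zero_mul]

/-- the matrix conditions cutting out `SUJ` -/
def IsUJ (σ : F →+* F) (M : Matrix (Fin n) (Fin n) F) : Prop :=
  M.det = 1 ∧ ∀ a b : Fin n, ∑ i, M i a * σ (M (Fin.rev i) b) = if a = Fin.rev b then 1 else 0

/-- the unitarity relations of an element of `SUJ` -/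
theorem unitary_rel (g : UG n σ) (a b : Fin n) :
    ∑ i, mat g i a * σ (mat g (Fin.rev i) b) = if a = Fin.rev b then 1 else 0 := by
  have h := g.2 (Pi.single a 1) (Pi.single b 1)
  rw [slToMat_apply, hermJ_single, hermJ_single_single] at h
  exact h

theorem hermJ_mulVec (M : Matrix (Fin n) (Fin n) F) (u v : Fin n → F) :
    hermJ σ (M *ᵥ u) (M *ᵥ v) =
      ∑ a, ∑ b, u a * σ (v b) * ∑ i, M i a * σ (M (Fin.rev i) b) := by
  have h : ∀ i, (M *ᵥ u) i * σ ((M *ᵥ v) (Fin.rev i)) =
      ∑ a, ∑ b, u a * σ (v b) * (M i a * σ (M (Fin.rev i) b)) := by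
    intro i
    simp only [Matrix.mulVec, dotProduct, map_sum, map_mul, Finset.sum_mul, Finset.mul_sum]
    rw [Finset.sum_comm]
    apply Finset.sum_congr rfl
    intro a _
    apply Finset.sum_congr rfl
    intro b _
    ring
  unfold hermJ
  simp only [h, Finset.mul_sum]
  rw [Finset.sum_comm]
  apply Finset.sum_congr rfl
  intro a _
  rw [Finset.sum_comm]

/-- a matrix satisfying the conditions gives an element of `SUJ` -/
theorem exists_of_isUJ {M : Matrix (Fin n) (Fin n) F} (hM : IsUJ σ M) : ∃ g : UG n σ, mat g = M := by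
  refine ⟨⟨⟨M, hM.1⟩, ?_⟩, rfl⟩
  intro u v
  change hermJ σ (M *ᵥ u) (M *ᵥ v) = hermJ σ u v
  rw [hermJ_mulVec]
  unfold hermJ
  apply Finset.sum_congr rfl
  intro a _
  rw [Finset.sum_eq_single (Fin.rev a)]
  · rw [hM.2, if_pos (Fin.rev_rev a).symm, mul_one]
  · intro b _ hb
    rw [hM.2, if_neg, mul_zero]
    intro h
    apply hb
    rw [h, Fin.rev_rev]
  · intro hh; exact absurd (Finset.mem_univ _) hh

theorem isUJ_mat (g : UG n σ) : IsUJ σ (mat g) := ⟨g.1.2, unitary_rel g⟩


theorem inv_mul_mat (g : UG n σ) : mat g⁻¹ * mat g = 1 := by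
  rw [← mat_mul, inv_mul_cancel, mat_one]

theorem mul_inv_mat (g : UG n σ) : mat g * mat g⁻¹ = 1 := by
  rw [← mat_mul, mul_inv_cancel, mat_one]

/-- the entries of the inverse of a unitary matrix -/
theorem inv_apply (g : UG n σ) (a b : Fin n) :
    mat g⁻¹ a b = σ (mat g (Fin.rev b) (Fin.rev a)) := by
  have hM : (Matrix.of fun a b => σ (mat g (Fin.rev b) (Fin.rev a))) * mat g = 1 := by
    ext a c
    rw [Matrix.mul_apply]
    simp only [Matrix.of_apply]
    have h := unitary_rel g c (Fin.rev a)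
    rw [Fin.rev_rev] at h
    have h4 : (if a = c then (1 : F) else 0) = if c = a then 1 else 0 := by
      by_cases hac : a = c
      · rw [if_pos hac, if_pos hac.symm]
      · rw [if_neg hac, if_neg (fun h' => hac h'.symm)]
    rw [Matrix.one_apply, h4, ← h]
    apply Finset.sum_congr rfl
    intro i _
    rw [mul_comm]
  have h2 : mat g⁻¹ = Matrix.of fun a b => σ (mat g (Fin.rev b) (Fin.rev a)) := by
    have h3 : mat g⁻¹ = (Matrix.of fun a b => σ (mat g (Fin.rev b) (Fin.rev a))) * (mat g * mat g⁻¹) := by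
      rw [← Matrix.mul_assoc, hM, Matrix.one_mul]
    rw [h3, mul_inv_mat, Matrix.mul_one]
  rw [h2]
  rfl

/-- the unitarity relations for the rows -/
theorem unitary_rel_row (hσ : ∀ x, σ (σ x) = x) (g : UG n σ) (a b : Fin n) :
    ∑ j, mat g a j * σ (mat g b (Fin.rev j)) = if a = Fin.rev b then 1 else 0 := by
  have h := unitary_rel g⁻¹ (Fin.rev b) (Fin.rev a)
  rw [Fin.rev_rev] at h
  have h4 : (if Fin.rev b = a then (1 : F) else 0) = if a = Fin.rev b then 1 else 0 := by
    by_cases hab : a = Fin.rev b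
    · rw [if_pos hab, if_pos hab.symm]
    · rw [if_neg hab, if_neg (fun h' => hab h'.symm)]
  rw [← h4, ← h]
  apply Finset.sum_congr rfl
  intro i _
  rw [inv_apply, inv_apply, hσ, Fin.rev_rev, Fin.rev_rev, Fin.rev_rev, mul_comm]

/-- the diagonal entries of an upper triangular element -/
theorem diag_mul_diag (g : UG n σ) (hg : ∀ a b : Fin n, b < a → mat g a b = 0) (a : Fin n) :
    mat g a a * σ (mat g (Fin.rev a) (Fin.rev a)) = 1 := by
  have h := unitary_rel g a (Fin.rev a)
  rw [Fin.rev_rev, if_pos rfl] at h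
  rw [← h]
  symm
  apply Finset.sum_eq_single a
  · intro i _ hia
    rcases lt_or_gt_of_ne hia with hlt | hgt
    · rw [hg (Fin.rev i) (Fin.rev a) (Fin.rev_lt_rev.2 hlt), map_zero, mul_zero]
    · rw [hg i a hgt, zero_mul]
  · intro hh; exact absurd (Finset.mem_univ _) hh

theorem diag_ne_zero (g : UG n σ) (hg : ∀ a b : Fin n, b < a → mat g a b = 0) (a : Fin n) :
    mat g a a ≠ 0 := by
  intro h0
  have := diag_mul_diag g hg a
  rw [h0, zero_mul] at this
  exact zero_ne_one this

/-! ### the subgroups -/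

/-- the Borel subgroup: upper triangular matrices -/
def Bsub (n : ℕ) (σ : F →+* F) : Subgroup (UG n σ) where
  carrier := {g | BlockTriangular (mat g) (id : Fin n → Fin n)}
  mul_mem' := fun {g h} hg hh => BlockTriangular.mul hg hh
  one_mem' := blockTriangular_one
  inv_mem' := fun {g} hg => by
    show BlockTriangular (mat g⁻¹) id
    have : Invertible (mat g) := Matrix.invertibleOfIsUnitDet _ (by rw [show (mat g).det = 1 from g.1.2]; exact isUnit_one)
    have h : mat g⁻¹ = (mat g)⁻¹ := by
      rw [Matrix.inv_eq_left_inv (inv_mul_mat g)]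
    rw [h]
    exact blockTriangular_inv_of_blockTriangular hg

theorem mem_Bsub_iff (g : UG n σ) : g ∈ Bsub n σ ↔ ∀ a b : Fin n, b < a → mat g a b = 0 :=
  ⟨fun h _ _ hab => h hab, fun h _ _ hab => h _ _ hab⟩

/-- the torus: diagonal matrices -/
def Tsub (n : ℕ) (σ : F →+* F) : Subgroup (UG n σ) where
  carrier := {g | ∀ a b : Fin n, a ≠ b → mat g a b = 0}
  mul_mem' := fun {g h} hg hh a b hab => by
    rw [mat_mul, Matrix.mul_apply]
    apply Finset.sum_eq_zero
    intro c _
    by_cases hac : a = c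
    · subst hac
      rw [hh a b hab, mul_zero]
    · rw [hg a c hac, zero_mul]
  one_mem' := fun a b hab => Matrix.one_apply_ne hab
  inv_mem' := fun {g} hg a b hab => by
    rw [inv_apply, hg _ _ (fun h => hab (Fin.rev_injective h).symm), map_zero]

theorem mem_Tsub_iff (g : UG n σ) : g ∈ Tsub n σ ↔ ∀ a b : Fin n, a ≠ b → mat g a b = 0 := Iff.rfl

theorem Tsub_le_Bsub : Tsub n σ ≤ Bsub n σ := by
  intro g hg
  rw [mem_Bsub_iff]
  intro a b hab
  exact hg a b (fun h => by rw [h] at hab; exact lt_irrefl _ hab)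

/-- the monomial matrices: column `b` is supported in row `π b` for a permutation `π` -/
def Mono (n : ℕ) (σ : F →+* F) : Subgroup (UG n σ) where
  carrier := {g | ∃ π : Equiv.Perm (Fin n), ∀ a b : Fin n, a ≠ π b → mat g a b = 0}
  mul_mem' := by
    rintro g h ⟨π, hπ⟩ ⟨ρ, hρ⟩
    refine ⟨π * ρ, fun a b hab => ?_⟩
    rw [mat_mul, Matrix.mul_apply]
    apply Finset.sum_eq_zero
    intro c _
    by_cases hc : c = ρ b
    · subst hc
      rw [hπ a (ρ b) hab, zero_mul]
    · rw [hρ c b hc, mul_zero]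
  one_mem' := ⟨1, fun a b hab => Matrix.one_apply_ne hab⟩
  inv_mem' := by
    rintro g ⟨π, hπ⟩
    refine ⟨Fin.revPerm * π⁻¹ * Fin.revPerm, fun a c hac => ?_⟩
    rw [inv_apply, hπ, map_zero]
    intro h
    apply hac
    simp only [Equiv.Perm.mul_apply, Fin.revPerm_apply]
    rw [h]
    simp

theorem mem_Mono_iff (g : UG n σ) :
    g ∈ Mono n σ ↔ ∃ π : Equiv.Perm (Fin n), ∀ a b : Fin n, a ≠ π b → mat g a b = 0 := Iff.rfl

theorem Tsub_le_Mono : Tsub n σ ≤ Mono n σ := fun _ hg => ⟨1, fun a b hab => hg a b hab⟩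


/-- the unipotent radical of `Bsub`: upper unitriangular matrices -/
def Usub (n : ℕ) (σ : F →+* F) : Subgroup (UG n σ) where
  carrier := {g | (∀ a b : Fin n, b < a → mat g a b = 0) ∧ ∀ a : Fin n, mat g a a = 1}
  mul_mem' := fun {g h} hg hh => by
    have hgh : g * h ∈ Bsub n σ :=
      (Bsub n σ).mul_mem ((mem_Bsub_iff g).2 hg.1) ((mem_Bsub_iff h).2 hh.1)
    refine ⟨(mem_Bsub_iff _).1 hgh, fun a => ?_⟩
    rw [mat_mul, Matrix.mul_apply, Finset.sum_eq_single a]
    · rw [hg.2, hh.2, mul_one]
    · intro c _ hca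
      rcases lt_or_gt_of_ne hca with h | h
      · rw [hg.1 a c h, zero_mul]
      · rw [hh.1 c a h, mul_zero]
    · intro h; exact absurd (Finset.mem_univ _) h
  one_mem' := ⟨fun a b hab => Matrix.one_apply_ne (ne_of_gt hab), fun a => Matrix.one_apply_eq a⟩
  inv_mem' := fun {g} hg => by
    have hB : g⁻¹ ∈ Bsub n σ := (Bsub n σ).inv_mem ((mem_Bsub_iff g).2 hg.1)
    refine ⟨(mem_Bsub_iff _).1 hB, fun a => ?_⟩
    rw [inv_apply, hg.2, map_one]

theorem mem_Usub_iff (g : UG n σ) :
    g ∈ Usub n σ ↔ (∀ a b : Fin n, b < a → mat g a b = 0) ∧ ∀ a : Fin n, mat g a a = 1 := Iff.rfl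

theorem Usub_le_Bsub : Usub n σ ≤ Bsub n σ := fun g hg => (mem_Bsub_iff g).2 hg.1

/-! ### the simple roots

The simple roots are indexed by `k : Fin (n / 2)`; the `k`-th one involves the positions `k`, `k + 1` and the
mirrored positions `n - 2 - k`, `n - 1 - k`.  Three kinds: (I) `2k + 3 < n`: the four positions are distinct;
(II) `2k + 2 = n`: `k + 1 = n - 1 - k` (middle of an even `n`); (III) `2k + 3 = n`: `k + 1 = n - 2 - k` is the
middle position of an odd `n`. -/

/-- the position `k` -/
def ia (k : Fin (n / 2)) : Fin n := ⟨k.val, by have := k.2; omega⟩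

/-- the position `k + 1` -/
def ib (k : Fin (n / 2)) : Fin n := ⟨k.val + 1, by have := k.2; omega⟩

theorem val_ia (k : Fin (n / 2)) : (ia k).val = k.val := rfl
theorem val_ib (k : Fin (n / 2)) : (ib k).val = k.val + 1 := rfl
theorem val_rev (a : Fin n) : (Fin.rev a).val = n - 1 - a.val := by
  rw [Fin.val_rev]; omega

/-- the parameters of the root group `X_k`: `x_k(t, u) = 1 + t E(k,k+1) - σ t E(n-2-k,n-1-k) + u E(k,n-1-k)`
with `u = 0` (I), `t = 0` and `u + σ u = 0` (II), `u + σ u + t σ t = 0` (III) -/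
def Param (σ : F →+* F) (k : Fin (n / 2)) (t u : F) : Prop :=
  if 2 * k.val + 3 < n then u = 0
  else if 2 * k.val + 2 = n then t = 0 ∧ u + σ u = 0
  else u + σ u + t * σ t = 0

/-- the root element `x_k(t, u)` -/
def xMat (σ : F →+* F) (k : Fin (n / 2)) (t u : F) : Matrix (Fin n) (Fin n) F :=
  1 + t • Matrix.single (ia k) (ib k) (1 : F)
    - σ t • Matrix.single (Fin.rev (ib k)) (Fin.rev (ia k)) (1 : F)
    + u • Matrix.single (ia k) (Fin.rev (ia k)) (1 : F)

theorem xMat_apply (k : Fin (n / 2)) (t u : F) (a b : Fin n) :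
    xMat σ k t u a b = (if a = b then 1 else 0) + (if ia k = a ∧ ib k = b then t else 0)
      - (if Fin.rev (ib k) = a ∧ Fin.rev (ia k) = b then σ t else 0)
      + (if ia k = a ∧ Fin.rev (ia k) = b then u else 0) := by
  unfold xMat
  simp only [Matrix.add_apply, Matrix.sub_apply, Matrix.smul_apply, Matrix.single_apply,
    Matrix.one_apply, smul_eq_mul, mul_ite, mul_one, mul_zero]

/-- the permutation of the positions induced by `s_k`: (I) `(k k+1)(n-2-k n-1-k)`; (II), (III) `(k n-1-k)` -/
def sPerm (k : Fin (n / 2)) : Equiv.Perm (Fin n) :=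
  if 2 * k.val + 3 < n then
    Equiv.swap (ia k) (ib k) * Equiv.swap (Fin.rev (ia k)) (Fin.rev (ib k))
  else Equiv.swap (ia k) (Fin.rev (ia k))

/-- the nonzero entry of `sMat c k` in column `j` -/
def sSign (c : F) (k : Fin (n / 2)) (j : Fin n) : F :=
  if 2 * k.val + 3 < n then 1
  else if 2 * k.val + 2 = n then (if j = ia k then -c⁻¹ else if j = ib k then c else 1)
  else (if j = ib k then -1 else 1)

/-- the representative of the simple reflection `s_k`: `e_j ↦ sSign c k j • e_{sPerm k j}`.
(I) the permutation matrix of `(k k+1)(n-2-k n-1-k)`; (II) `e_k ↦ -c⁻¹ e_{k+1}`, `e_{k+1} ↦ c e_k`, where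
`c ≠ 0`, `σ c = -c`; (III) `e_k ↦ e_{k+2}`, `e_{k+1} ↦ -e_{k+1}`, `e_{k+2} ↦ e_k` -/
def sMat (c : F) (k : Fin (n / 2)) : Matrix (Fin n) (Fin n) F :=
  Matrix.of fun i j => if i = sPerm k j then sSign c k j else 0

theorem sMat_apply (c : F) (k : Fin (n / 2)) (i j : Fin n) :
    sMat c k i j = if i = sPerm k j then sSign c k j else 0 := rfl

theorem eq_iff_val_eq (x y : Fin n) : x = y ↔ x.val = y.val := Fin.ext_iff

/-- the action of `sPerm k` on the positions -/
theorem val_sPerm (k : Fin (n / 2)) (j : Fin n) :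
    (sPerm k j).val =
      if 2 * k.val + 3 < n then
        (if j.val = k.val then k.val + 1 else if j.val = k.val + 1 then k.val
          else if j.val = n - 2 - k.val then n - 1 - k.val
          else if j.val = n - 1 - k.val then n - 2 - k.val else j.val)
      else (if j.val = k.val then n - 1 - k.val else if j.val = n - 1 - k.val then k.val else j.val) := by
  have hk := k.2
  have hj := j.2
  unfold sPerm
  by_cases h : 2 * k.val + 3 < n
  · rw [if_pos h, if_pos h]
    simp only [Equiv.Perm.mul_apply, Equiv.swap_apply_def, eq_iff_val_eq, val_ia, val_ib, val_rev,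
      apply_ite Fin.val]
    split_ifs <;> omega
  · rw [if_neg h, if_neg h]
    simp only [Equiv.swap_apply_def, eq_iff_val_eq, val_ia, val_rev, apply_ite Fin.val]

theorem sPerm_sPerm (k : Fin (n / 2)) (j : Fin n) : sPerm k (sPerm k j) = j := by
  apply Fin.ext
  rw [val_sPerm, val_sPerm]
  have hk := k.2
  have hj := j.2
  split_ifs <;> omega

theorem sPerm_rev (k : Fin (n / 2)) (j : Fin n) : sPerm k (Fin.rev j) = Fin.rev (sPerm k j) := by
  apply Fin.ext
  rw [val_rev, val_sPerm, val_sPerm, val_rev]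
  have hk := k.2
  have hj := j.2
  split_ifs <;> omega

/-- the root group `X_k` (as a set) -/
def Xset (σ : F →+* F) (k : Fin (n / 2)) : Set (UG n σ) :=
  {g | ∃ t u : F, Param σ k t u ∧ mat g = xMat σ k t u}

/-- the set of distinguished representatives of the simple reflections -/
def Sset (n : ℕ) (σ : F →+* F) (c : F) : Set (UG n σ) := {g | ∃ k : Fin (n / 2), mat g = sMat c k}

/-- the group `N` -/
def Nsub (n : ℕ) (σ : F →+* F) (c : F) : Subgroup (UG n σ) :=
  Subgroup.closure (Sset n σ c) ⊔ Tsub n σ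

/-! ### monomial matrices: API -/

section mono

variable (m : UG n σ) (π : Equiv.Perm (Fin n)) (hπ : ∀ a b : Fin n, a ≠ π b → mat m a b = 0)
include hπ

/-- the product of a matrix with a monomial matrix -/
theorem mul_mono_apply (A : Matrix (Fin n) (Fin n) F) (a b : Fin n) :
    (A * mat m) a b = A a (π b) * mat m (π b) b := by
  rw [Matrix.mul_apply]
  apply Finset.sum_eq_single (π b)
  · intro c _ hc
    rw [hπ c b hc, mul_zero]
  · intro h; exact absurd (Finset.mem_univ _) h

/-- the nonzero entries of a monomial matrix are nonzero -/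
theorem mono_apply_ne_zero (b : Fin n) : mat m (π b) b ≠ 0 := by
  intro h0
  have h1 := mul_mono_apply m π hπ (mat m⁻¹) b b
  rw [inv_mul_mat, Matrix.one_apply_eq, h0, mul_zero] at h1
  exact one_ne_zero h1

/-- the inverse of a monomial matrix is monomial for the inverse permutation -/
theorem mono_inv_apply_eq_zero (a c : Fin n) (hac : a ≠ π⁻¹ c) : mat m⁻¹ a c = 0 := by
  set b := π⁻¹ c with hb
  have hc : c = π b := by rw [hb]; exact (Equiv.apply_symm_apply π c).symm
  have h2 := mul_mono_apply m π hπ (mat m⁻¹) a b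
  rw [inv_mul_mat, Matrix.one_apply_ne hac] at h2
  rw [hc]
  rcases mul_eq_zero.1 h2.symm with h | h
  · exact h
  · exact absurd h (mono_apply_ne_zero m π hπ b)

theorem mono_inv_apply_mul (a : Fin n) : mat m⁻¹ a (π a) * mat m (π a) a = 1 := by
  have h1 := mul_mono_apply m π hπ (mat m⁻¹) a a
  rw [inv_mul_mat, Matrix.one_apply_eq] at h1
  exact h1.symm

theorem mono_inv_apply_ne_zero (a : Fin n) : mat m⁻¹ a (π a) ≠ 0 := by
  intro h0
  have := mono_inv_apply_mul m π hπ a
  rw [h0, zero_mul] at this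
  exact zero_ne_one this

/-- the product of the inverse of a monomial matrix with a matrix -/
theorem inv_mono_mul_apply (A : Matrix (Fin n) (Fin n) F) (a b : Fin n) :
    (mat m⁻¹ * A) a b = mat m⁻¹ a (π a) * A (π a) b := by
  rw [Matrix.mul_apply]
  apply Finset.sum_eq_single (π a)
  · intro c _ hc
    rw [mono_inv_apply_eq_zero m π hπ a c, zero_mul]
    intro h
    apply hc
    rw [h]
    exact (Equiv.apply_symm_apply π c).symm
  · intro h; exact absurd (Finset.mem_univ _) h

/-- conjugation by a monomial matrix permutes the entries, up to nonzero scalars -/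
theorem mono_conj_apply (g : UG n σ) (a b : Fin n) :
    mat (m⁻¹ * g * m) a b = mat m⁻¹ a (π a) * mat g (π a) (π b) * mat m (π b) b := by
  rw [mat_mul, mul_mono_apply m π hπ, mat_mul, inv_mono_mul_apply m π hπ]

/-- conjugation by a monomial matrix, the other way round -/
theorem mono_conj_apply' (g : UG n σ) (a b : Fin n) :
    mat (m * g * m⁻¹) (π a) (π b) = mat m (π a) a * mat g a b * mat m⁻¹ b (π b) := by
  have hρ : ∀ a' b' : Fin n, a' ≠ π⁻¹ b' → mat m⁻¹ a' b' = 0 :=
    fun a' b' h => mono_inv_apply_eq_zero m π hπ a' b' h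
  have h := mono_conj_apply m⁻¹ π⁻¹ hρ g (π a) (π b)
  rw [inv_inv] at h
  rw [h]
  simp

/-- a unitary monomial matrix commutes with the reversal of the positions -/
theorem mono_perm_rev (a : Fin n) : π (Fin.rev a) = Fin.rev (π a) := by
  by_contra hne
  have h0 : mat m (Fin.rev (π a)) (Fin.rev a) = 0 := hπ _ _ (fun h => hne h.symm)
  have h1 := inv_apply m a (π a)
  rw [h0, map_zero] at h1
  exact mono_inv_apply_ne_zero m π hπ a h1

end mono


/-! ### generation: vocabulary -/

/-- the first `j` columns of `g` are upper triangular (`g` stabilises the first `j` steps of the standard flag) -/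
def Pj (σ : F →+* F) (j : ℕ) : Set (UG n σ) :=
  {g | ∀ a b : Fin n, b.val < j → b < a → mat g a b = 0}

/-- `Pj σ j` is closed under inverses -/
theorem inv_mem_Pj (j : ℕ) (g : UG n σ) (hg : g ∈ Pj σ j) : g⁻¹ ∈ Pj σ j := by
  have hB : BlockTriangular (mat g) (fun i : Fin n => min i.val j) := by
    intro a b hab
    have hab' : min b.val j < min a.val j := hab
    exact hg a b (by omega) (by rw [Fin.lt_def]; omega)
  have : Invertible (mat g) :=
    Matrix.invertibleOfIsUnitDet _ (by rw [show (mat g).det = 1 from g.1.2]; exact isUnit_one)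
  have h : mat g⁻¹ = (mat g)⁻¹ := by
    rw [Matrix.inv_eq_left_inv (inv_mul_mat g)]
  have hB' := blockTriangular_inv_of_blockTriangular hB
  rw [← h] at hB'
  intro a b hbj hba
  apply hB'
  show min b.val j < min a.val j
  rw [Fin.lt_def] at hba
  omega

/-- `Pj σ j` is closed under products -/
theorem mul_mem_Pj (j : ℕ) (g h : UG n σ) (hg : g ∈ Pj σ j) (hh : h ∈ Pj σ j) : g * h ∈ Pj σ j := by
  have hB : ∀ g : UG n σ, g ∈ Pj σ j → BlockTriangular (mat g) (fun i : Fin n => min i.val j) := by
    intro g hg a b hab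
    have hab' : min b.val j < min a.val j := hab
    exact hg a b (by omega) (by rw [Fin.lt_def]; omega)
  have hB' := BlockTriangular.mul (hB g hg) (hB h hh)
  intro a b hbj hba
  rw [mat_mul]
  apply hB'
  show min b.val j < min a.val j
  rw [Fin.lt_def] at hba
  omega


/-- the first `j` columns of `h` are those of the identity matrix -/
def Fixj (j : ℕ) (h : UG n σ) : Prop :=
  ∀ a b : Fin n, b.val < j → mat h a b = if a = b then 1 else 0

end Cfsg.Agent.Helper5.SuBN
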