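import Mathlib
import Cfsg.Agent.Helper19.Unip.Full

/-!
# In a (B,N)-pair with root data, `B` is the only coset of `B` fixed by the unipotent radical
(helper5, for S2546; generic)
-/

set_option autoImplicit false

namespace Cfsg.Agent.Helper5.SuBN

open Cfsg Cfsg.Agent.Helper6 Cfsg.Agent.Helper19.Stein Cfsg.Agent.Helper19.Unip

section generic

variable {Γ : Type*} [Group Γ] (P' : Cfsg.BNPair Γ)

/-- an element of `N` which conjugates every root set into `B` lies in `B` -/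
theorem mem_B_of_conj_root (X : P'.S → Set Γ)
    (hdec : ∀ s : P'.S, ∀ b ∈ P'.B, ∃ y x : Γ, b = y * x ∧ s.1 * y * s.1⁻¹ ∈ P'.B ∧ x ∈ X s)
    (n : Γ) (hn : n ∈ P'.N) (h : ∀ s : P'.S, ∀ x ∈ X s, n⁻¹ * x * n ∈ P'.B) : n ∈ P'.B := by
  have hE := exchData_wf P'
  by_contra hnB
  have hw : mkW P' n hn ≠ 1 := fun h1 => hnB ((mkW_eq_one_iff P' hn).1 h1)
  obtain ⟨l, hl, hlen⟩ := exists_red hE.gen (mkW P' n hn)
  rcases l with _ | ⟨s, l'⟩
  · rw [wp_nil] at hl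
    exact hw hl.symm
  rw [wp_cons] at hl
  have hsn : s.1 * n ∈ P'.N := P'.N.mul_mem (P'.subset s.2) hn
  have h1 : wl (wf P') (mkW P' (s.1 * n) hsn) ≤ l'.length := by
    apply wl_le
    have e : mkW P' (s.1 * n) hsn = wf P' s * mkW P' n hn := rfl
    rw [e, ← hl, ← mul_assoc, hE.inv, one_mul]
  have h2 : len P' P'.S (s.1 * n) ≤ len P' P'.S n := by
    rw [← wl_mkW P' hsn, ← wl_mkW P' hn, ← hlen, List.length_cons]
    omega
  obtain ⟨c, hc, hcn⟩ := key2 (le_refl _) (expr_of_mem_N hn) s.2 h2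
  obtain ⟨y, x, rfl, hy, hx⟩ := hdec s c hc
  have hx' := h s x hx
  have h3 : s.1 * (y * x) * n ∈ dc P' (s.1 * n) := by
    rw [mem_dc]
    refine ⟨s.1 * y * s.1⁻¹, hy, n⁻¹ * x * n, hx', by group⟩
  have hrel := rel_of_dc_eq hsn hn (mem_dc_both h3 hcn)
  exact not_rel_S_mul s.2 hn hrel

/-- (P10), generic: if `g⁻¹ U g ⊆ B` for a subgroup `U` normalised by `B` and containing the root sets,
then `g ∈ B` -/
theorem mem_B_of_conj_gen (X : P'.S → Set Γ)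
    (hdec : ∀ s : P'.S, ∀ b ∈ P'.B, ∃ y x : Γ, b = y * x ∧ s.1 * y * s.1⁻¹ ∈ P'.B ∧ x ∈ X s)
    (U : Subgroup Γ) (hUn : ∀ b ∈ P'.B, ∀ u ∈ U, b⁻¹ * u * b ∈ U) (hXU : ∀ s : P'.S, X s ⊆ U)
    (g : Γ) (h : ∀ u ∈ U, g⁻¹ * u * g ∈ P'.B) : g ∈ P'.B := by
  obtain ⟨n, hn, hg⟩ := bruhat_exists P' g
  rw [mem_dc] at hg
  obtain ⟨b, hb, b', hb', rfl⟩ := hg
  have hnB : n ∈ P'.B := by
    apply mem_B_of_conj_root P' X hdec n hn
    intro s x hx
    have hxU : x ∈ U := hXU s hx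
    have hu : b * x * b⁻¹ ∈ U := by
      have := hUn b⁻¹ (P'.B.inv_mem hb) x hxU
      rwa [inv_inv] at this
    have h1 := h _ hu
    have e : n⁻¹ * x * n = b' * ((b * n * b')⁻¹ * (b * x * b⁻¹) * (b * n * b')) * b'⁻¹ := by group
    rw [e]
    exact P'.B.mul_mem (P'.B.mul_mem hb' h1) (P'.B.inv_mem hb')
  exact P'.B.mul_mem (P'.B.mul_mem hb hnB) hb'

end generic

end Cfsg.Agent.Helper5.SuBN
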