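import Mathlib
import Cfsg.Agent.Helper5.SuBN.Defs

/-! # (N1) the reflections are monomial (helper5, S2546) -/

set_option autoImplicit false

namespace Cfsg.Agent.Helper5.SuBN.N1

open Matrix Cfsg.Agent.Helper5.SuBN

variable {F : Type*} [Field F] {n : ℕ} {σ : F →+* F}

/-- (N1) the reflections are monomial -/
theorem Sset_subset_Mono (c : F) : Sset n σ c ⊆ (Mono n σ : Set (UG n σ)) := by
  rintro g ⟨k, hk⟩
  refine ⟨sPerm k, fun a b hab => ?_⟩
  rw [hk, sMat_apply, if_neg hab]

end Cfsg.Agent.Helper5.SuBN.N1
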