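import Mathlib
import Cfsg.Agent.Helper5.SuBN.Defs

/-!
# Root elements: entries of products and inverses (helper5, S2546)
-/

set_option autoImplicit false

namespace Cfsg.Agent.Helper5.SuBN

open Matrix

variable {F : Type*} [Field F] {n : ℕ} {σ : F →+* F}

/-- root elements are upper triangular -/
theorem xMat_upper (k : Fin (n / 2)) (t u : F) (i j : Fin n) (hji : j < i) :
    xMat σ k t u i j = 0 := by
  have hk := k.2
  rw [xMat_apply]
  rw [Fin.lt_def] at hji
  have h1 : ¬ i = j := fun h => by rw [h] at hji; exact lt_irrefl _ hji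
  have h2 : ¬ (ia k = i ∧ ib k = j) := by
    rintro ⟨rfl, rfl⟩
    rw [val_ia, val_ib] at hji; omega
  have h3 : ¬ (Fin.rev (ib k) = i ∧ Fin.rev (ia k) = j) := by
    rintro ⟨rfl, rfl⟩
    rw [val_rev, val_rev, val_ia, val_ib] at hji; omega
  have h4 : ¬ (ia k = i ∧ Fin.rev (ia k) = j) := by
    rintro ⟨rfl, rfl⟩
    rw [val_rev, val_ia] at hji; omega
  rw [if_neg h1, if_neg h2, if_neg h3, if_neg h4]
  ring

theorem mul_xMat_apply (M : Matrix (Fin n) (Fin n) F) (k : Fin (n / 2)) (t u : F) (i j : Fin n) :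
    (M * xMat σ k t u) i j = M i j + (if ib k = j then M i (ia k) * t else 0)
      - (if Fin.rev (ia k) = j then M i (Fin.rev (ib k)) * σ t else 0)
      + (if Fin.rev (ia k) = j then M i (ia k) * u else 0) := by
  rw [Matrix.mul_apply]
  simp only [xMat_apply, mul_add, mul_sub, Finset.sum_add_distrib, Finset.sum_sub_distrib, ite_and,
    mul_ite, mul_one, mul_zero, Finset.sum_ite_eq', Finset.sum_ite_eq, Finset.mem_univ, if_true]

theorem inv_xMat (hσ : ∀ x, σ (σ x) = x) (x : UG n σ) (k : Fin (n / 2)) (t u : F)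
    (hx : mat x = xMat σ k t u) : mat x⁻¹ = xMat σ k (-t) (σ u) := by
  ext i j
  rw [inv_apply, hx, xMat_apply, xMat_apply]
  simp only [map_add, map_sub, apply_ite σ, map_one, map_zero, hσ, map_neg, Fin.rev_inj]
  have e1 : (j = i) = (i = j) := propext eq_comm
  have e2 : (ia k = j.rev ∧ ib k = i.rev) = ((ib k).rev = i ∧ (ia k).rev = j) :=
    propext ⟨fun ⟨h1, h2⟩ => ⟨by rw [h2, Fin.rev_rev], by rw [h1, Fin.rev_rev]⟩,
      fun ⟨h1, h2⟩ => ⟨by rw [← h2, Fin.rev_rev], by rw [← h1, Fin.rev_rev]⟩⟩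
  have e3 : (ib k = j ∧ ia k = i) = (ia k = i ∧ ib k = j) := propext and_comm
  have e4 : (ia k = j.rev ∧ ia k = i) = (ia k = i ∧ (ia k).rev = j) :=
    propext ⟨fun ⟨h1, h2⟩ => ⟨h2, by rw [h1, Fin.rev_rev]⟩,
      fun ⟨h1, h2⟩ => ⟨by rw [← h2, Fin.rev_rev], h1⟩⟩
  simp only [e1, e2, e3, e4]
  split_ifs <;> ring

theorem adj_zero (y : UG n σ) (hy : y ∈ Bsub n σ) (i j : Fin n) (hij : j.val = i.val + 1)
    (h0 : mat y i j = 0) : mat y (Fin.rev j) (Fin.rev i) = 0 := by
  have hyinv : y⁻¹ ∈ Bsub n σ := (Bsub n σ).inv_mem hy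
  rw [mem_Bsub_iff] at hy hyinv
  have h1 : (mat y⁻¹ * mat y) i j = 0 := by
    rw [inv_mul_mat, Matrix.one_apply_ne]
    intro h; rw [h] at hij; omega
  rw [Matrix.mul_apply] at h1
  have h2 : ∑ l, mat y⁻¹ i l * mat y l j = mat y⁻¹ i j * mat y j j := by
    apply Finset.sum_eq_single j
    · intro l _ hlj
      by_cases hli : l = i
      · rw [hli, h0, mul_zero]
      · rcases lt_or_gt_of_ne hlj with h | h
        · have : l < i := by
            rw [Fin.lt_def] at h ⊢
            have := Fin.val_ne_of_ne hli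
            omega
          rw [hyinv i l this, zero_mul]
        · rw [hy l j h, mul_zero]
    · intro h; exact absurd (Finset.mem_univ _) h
  rw [h2] at h1
  have h3 : mat y⁻¹ i j = 0 := by
    rcases mul_eq_zero.1 h1 with h | h
    · exact h
    · exact absurd h (diag_ne_zero y hy j)
  rw [inv_apply] at h3
  exact (map_eq_zero σ).1 h3

end Cfsg.Agent.Helper5.SuBN
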