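import Mathlib
import Cfsg.Agent.Helper5.SuBN.XApi

/-! # (R1-III) factorisation `B = (B ∩ s⁻¹ B s) X_k`, roots of the third kind (helper5, S2546) -/

set_option autoImplicit false

namespace Cfsg.Agent.Helper5.SuBN.R1III

open Matrix Cfsg.Agent.Helper5.SuBN

variable {F : Type*} [Field F] {n : ℕ} {σ : F →+* F}

/-- (R1-III) -/
theorem exists_factor_III (hσ : ∀ x, σ (σ x) = x)
    (hX : ∀ (k : Fin (n / 2)) (t u : F), Param σ k t u → IsUJ σ (xMat σ k t u))
    (c : F) (k : Fin (n / 2)) (hk : 2 * k.val + 3 = n) (s : UG n σ) (hs : mat s = sMat c k)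
    (b : UG n σ) (hb : b ∈ Bsub n σ) :
    ∃ y x : UG n σ, b = y * x ∧ s * y * s⁻¹ ∈ Bsub n σ ∧ x ∈ Xset σ k := by
  have hbB := hb
  rw [mem_Bsub_iff] at hb
  have hkn := k.2
  set a := ia k with ha
  set m := ib k with hm
  have hrm : Fin.rev m = m := by
    apply Fin.ext; rw [val_rev, hm, val_ib]; omega
  have hp : mat b a a ≠ 0 := diag_ne_zero b hb a
  have hσp : σ (mat b a a) ≠ 0 := fun h => hp ((map_eq_zero σ).1 h)
  set p := mat b a a with hpdef
  set r := mat b a m with hrdef
  set w := mat b a (Fin.rev a) with hwdef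
  -- the row relation
  have hrow : p * σ w + r * σ r + w * σ p = 0 := by
    have h := unitary_rel_row hσ b a a
    have hne : a ≠ Fin.rev a := by
      intro h'
      have := congrArg Fin.val h'
      rw [val_rev, ha, val_ia] at this; omega
    rw [if_neg hne] at h
    rw [← h]
    symm
    have hsub : ∑ j, mat b a j * σ (mat b a (Fin.rev j)) =
        ∑ j ∈ ({a, m, Fin.rev a} : Finset (Fin n)), mat b a j * σ (mat b a (Fin.rev j)) := by
      symm
      apply Finset.sum_subset (Finset.subset_univ _)
      intro j _ hj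
      simp only [Finset.mem_insert, Finset.mem_singleton, not_or] at hj
      obtain ⟨h1, h2, h3⟩ := hj
      have h1' : j.val ≠ k.val := fun h' => h1 (Fin.ext (by rw [ha, val_ia]; exact h'))
      have h2' : j.val ≠ k.val + 1 := fun h' => h2 (Fin.ext (by rw [hm, val_ib]; exact h'))
      have h3' : j.val ≠ k.val + 2 := fun h' => h3 (Fin.ext (by rw [val_rev, ha, val_ia]; omega))
      by_cases hj : j.val < k.val
      · rw [hb a j (by rw [Fin.lt_def, ha, val_ia]; exact hj), zero_mul]
      · rw [hb a (Fin.rev j) (by rw [Fin.lt_def, ha, val_ia, val_rev]; omega), map_zero, mul_zero]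
    rw [hsub, Finset.sum_insert, Finset.sum_insert, Finset.sum_singleton, hrm, Fin.rev_rev]
    · ring
    · simp only [Finset.mem_singleton]
      intro h'
      have := congrArg Fin.val h'
      rw [val_rev, hm, val_ib, ha, val_ia] at this; omega
    · simp only [Finset.mem_insert, Finset.mem_singleton, not_or]
      refine ⟨?_, hne⟩
      intro h'
      have := congrArg Fin.val h'
      rw [hm, val_ib, ha, val_ia] at this; omega
  -- the parameters
  set t := r / p with ht
  set u := -(σ w + t * σ r) / σ p with hu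
  have hσt : σ t = σ r / σ p := by rw [ht, map_div₀]
  have hσu : σ u = -(w + σ t * r) / p := by
    rw [hu, map_div₀, map_neg, map_add, map_mul, hσ, hσ, hσ]
  have hpar : Param σ k t u := by
    unfold Param
    rw [if_neg (by omega), if_neg (by omega)]
    rw [hσu, hu, hσt, ht]
    field_simp
    linear_combination (-1 : F) * hrow
  obtain ⟨x, hx⟩ := exists_of_isUJ (hX k t u hpar)
  have hxi := inv_xMat hσ x k t u hx
  have hxB : x ∈ Bsub n σ := by
    rw [mem_Bsub_iff]
    intro i j hji
    rw [hx]
    exact xMat_upper k t u i j hji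
  refine ⟨b * x⁻¹, x, by group, ?_, ⟨t, u, hpar, hx⟩⟩
  set y := b * x⁻¹ with hy
  have hyB : y ∈ Bsub n σ := (Bsub n σ).mul_mem hbB ((Bsub n σ).inv_mem hxB)
  have hyent : ∀ i j, mat y i j = mat b i j + (if ib k = j then mat b i (ia k) * (-t) else 0)
      - (if Fin.rev (ia k) = j then mat b i (Fin.rev (ib k)) * σ (-t) else 0)
      + (if Fin.rev (ia k) = j then mat b i (ia k) * σ u else 0) := by
    intro i j
    rw [hy, mat_mul, hxi, mul_xMat_apply]
  have ham : a ≠ m := by
    intro h'
    have := congrArg Fin.val h'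
    rw [hm, val_ib, ha, val_ia] at this; omega
  have hara : a ≠ Fin.rev a := by
    intro h'
    have := congrArg Fin.val h'
    rw [val_rev, ha, val_ia] at this; omega
  have hmra : m ≠ Fin.rev a := by
    intro h'
    have := congrArg Fin.val h'
    rw [val_rev, hm, val_ib, ha, val_ia] at this; omega
  have y1 : mat y a m = 0 := by
    rw [hyent, if_pos rfl, if_neg (fun h => hmra h.symm), if_neg (fun h => hmra h.symm)]
    rw [← hpdef, ← hrdef, ht]
    field_simp
    ring
  have y2 : mat y a (Fin.rev a) = 0 := by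
    rw [hyent, if_neg hmra, if_pos rfl, if_pos rfl, hrm, ← hpdef, ← hrdef, ← hwdef, hσu, map_neg]
    field_simp
    ring
  have y3 : mat y m (Fin.rev a) = 0 := by
    have := adj_zero y hyB a m (by rw [hm, val_ib, ha, val_ia]) y1
    rw [hrm] at this
    exact this
  -- conjugation by s
  have hπ : ∀ i j : Fin n, i ≠ sPerm k j → mat s i j = 0 := by
    intro i j hij
    rw [hs, sMat_apply, if_neg hij]
  rw [mem_Bsub_iff]
  intro i' j' hji
  have h := mono_conj_apply' s (sPerm k) hπ y (sPerm k i') (sPerm k j')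
  rw [sPerm_sPerm, sPerm_sPerm] at h
  rw [h]
  have hy0 : mat y (sPerm k i') (sPerm k j') = 0 := by
    rw [mem_Bsub_iff] at hyB
    by_cases hlt : sPerm k j' < sPerm k i'
    · exact hyB _ _ hlt
    · rw [Fin.lt_def] at hlt hji
      have v1 := val_sPerm k i'
      have v2 := val_sPerm k j'
      rw [if_neg (by omega)] at v1 v2
      have hi' := i'.2
      have hj' := j'.2
      -- three cases
      have hcases : ((sPerm k i').val = k.val ∧ (sPerm k j').val = k.val + 1) ∨
          ((sPerm k i').val = k.val ∧ (sPerm k j').val = k.val + 2) ∨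
          ((sPerm k i').val = k.val + 1 ∧ (sPerm k j').val = k.val + 2) := by
        split_ifs at v1 v2 <;> omega
      rcases hcases with ⟨e1, e2⟩ | ⟨e1, e2⟩ | ⟨e1, e2⟩
      · have e1' : sPerm k i' = a := Fin.ext (by rw [e1, ha, val_ia])
        have e2' : sPerm k j' = m := Fin.ext (by rw [e2, hm, val_ib])
        rw [e1', e2']; exact y1
      · have e1' : sPerm k i' = a := Fin.ext (by rw [e1, ha, val_ia])
        have e2' : sPerm k j' = Fin.rev a := Fin.ext (by rw [e2, val_rev, ha, val_ia]; omega)
        rw [e1', e2']; exact y2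
      · have e1' : sPerm k i' = m := Fin.ext (by rw [e1, hm, val_ib])
        have e2' : sPerm k j' = Fin.rev a := Fin.ext (by rw [e2, val_rev, ha, val_ia]; omega)
        rw [e1', e2']; exact y3
  rw [hy0, mul_zero, zero_mul]

end Cfsg.Agent.Helper5.SuBN.R1III
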