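import Mathlib
import Cfsg.Agent.Helper5.SuBN.Defs
import Cfsg.Agent.Helper23.SuBNL2
import Cfsg.Agent.Helper24.SuBNL1
import Cfsg.Agent.Helper24.SuBNSTEP0
import Cfsg.Agent.Helper31.SuBNR3III
import Cfsg.Agent.Helper31.SuBNS2
import Cfsg.Agent.Helper33.SuBNMEMS
import Cfsg.Agent.Helper5.SuBN.N1
import Cfsg.Agent.Helper5.SuBN.R1III
import Cfsg.Agent.Helper53.SuBNSINJ
import Cfsg.Agent.Helper63.SuBNTOP
import Cfsg.Agent.Helper65.SuBNCN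
import Cfsg.Agent.Helper72.SuBNRED
import Cfsg.Agent.Helper72.SuBNSTEP2III
import Cfsg.Agent.Helper73.SuBNR1I
import Cfsg.Agent.Helper73.SuBNR1II
import Cfsg.Agent.Helper76.SuBNR2
import Cfsg.Agent.Helper76.SuBNSTEP1
import Cfsg.Agent.Helper81.SuBNN2
import Cfsg.Agent.Helper81.SuBNN3
import Cfsg.Agent.Helper81.SuBNS1
import Cfsg.Agent.Helper87.SuBNR3I
import Cfsg.Agent.Helper87.SuBNR3II
import Cfsg.Agent.Helper93.SuBNMEMX
import Cfsg.Agent.Helper93.SuBNXB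
import Cfsg.Agent.Helper97.SuBNSTEP2I
import Cfsg.Agent.Helper97.SuBNSTEP2II

/-!
# Skeleton for the (B,N)-pair of `SUJ n σ` (helper5, S2546)
-/

set_option autoImplicit false

namespace Cfsg.Agent.Helper5.SuBN.Pair

open Matrix Cfsg.Agent.Helper5.SuBN

variable {F : Type*} [Field F] {n : ℕ} {σ : F →+* F}

/-! ### pieces -/

/-- (MEMS) -/
theorem sMat_isUJ (c : F) (hc0 : c ≠ 0) (hc : σ c = -c) (k : Fin (n / 2)) :
    IsUJ σ (sMat c k) :=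
  Cfsg.Agent.Helper33.SuBNMEMS.sMat_isUJ c hc0 hc k

/-- (MEMX) -/
theorem xMat_isUJ (hσ : ∀ x, σ (σ x) = x) (k : Fin (n / 2)) (t u : F) (h : Param σ k t u) :
    IsUJ σ (xMat σ k t u) :=
  Cfsg.Agent.Helper93.SuBNMEMX.xMat_isUJ hσ k t u h

/-- (SINJ) -/
theorem sMat_injective (c : F) (hc0 : c ≠ 0) : Function.Injective (sMat (n := n) c) :=
  Cfsg.Agent.Helper53.SuBNSINJ.sMat_injective c hc0

/-- (XB) root elements are upper unitriangular -/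
theorem Xset_subset_Usub (k : Fin (n / 2)) : Xset σ k ⊆ (Usub n σ : Set (UG n σ)) :=
  Cfsg.Agent.Helper93.SuBNXB.Xset_subset_Usub k

/-- (N1) the reflections are monomial -/
theorem Sset_subset_Mono (c : F) : Sset n σ c ⊆ (Mono n σ : Set (UG n σ)) :=
  Cfsg.Agent.Helper5.SuBN.N1.Sset_subset_Mono c

/-- (N2) upper triangular monomial matrices are diagonal -/
theorem Bsub_inf_Mono : Bsub n σ ⊓ Mono n σ = Tsub n σ :=
  Cfsg.Agent.Helper81.SuBNN2.Bsub_inf_Mono 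

/-- (N3) the torus is normalised by the monomial group -/
theorem conj_mem_Tsub (m : UG n σ) (hm : m ∈ Mono n σ) (t : UG n σ) (ht : t ∈ Tsub n σ) :
    m * t * m⁻¹ ∈ Tsub n σ :=
  Cfsg.Agent.Helper81.SuBNN3.conj_mem_Tsub m hm t ht

/-- (S1) -/
theorem sq_mem_Tsub (c : F) (s : UG n σ) (hs : s ∈ Sset n σ c) : s * s ∈ Tsub n σ :=
  Cfsg.Agent.Helper81.SuBNS1.sq_mem_Tsub c s hs

/-- (S2) -/
theorem eq_of_inv_mul_mem (c : F) (hc0 : c ≠ 0) (s s' : UG n σ) (hs : s ∈ Sset n σ c)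
    (hs' : s' ∈ Sset n σ c) (h : s⁻¹ * s' ∈ Bsub n σ) : s = s' :=
  Cfsg.Agent.Helper31.SuBNS2.eq_of_inv_mul_mem c hc0 s s' hs hs' h

/-- (R1-I) `B = (B ∩ s⁻¹ B s) X_k`, roots of the first kind -/
theorem exists_factor_I (hσ : ∀ x, σ (σ x) = x)
    (hX : ∀ (k : Fin (n / 2)) (t u : F), Param σ k t u → IsUJ σ (xMat σ k t u))
    (c : F) (k : Fin (n / 2)) (hk : 2 * k.val + 3 < n) (s : UG n σ) (hs : mat s = sMat c k)
    (b : UG n σ) (hb : b ∈ Bsub n σ) :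
    ∃ y x : UG n σ, b = y * x ∧ s * y * s⁻¹ ∈ Bsub n σ ∧ x ∈ Xset σ k :=
  Cfsg.Agent.Helper73.SuBNR1I.exists_factor_I hσ hX c k hk s hs b hb

/-- (R1-II) the same for the root of the second kind -/
theorem exists_factor_II (hσ : ∀ x, σ (σ x) = x)
    (hX : ∀ (k : Fin (n / 2)) (t u : F), Param σ k t u → IsUJ σ (xMat σ k t u))
    (c : F) (hc0 : c ≠ 0) (k : Fin (n / 2)) (hk : 2 * k.val + 2 = n) (s : UG n σ)
    (hs : mat s = sMat c k) (b : UG n σ) (hb : b ∈ Bsub n σ) :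
    ∃ y x : UG n σ, b = y * x ∧ s * y * s⁻¹ ∈ Bsub n σ ∧ x ∈ Xset σ k :=
  Cfsg.Agent.Helper73.SuBNR1II.exists_factor_II hσ hX c hc0 k hk s hs b hb

/-- (R1-III) the same for the root of the third kind -/
theorem exists_factor_III (hσ : ∀ x, σ (σ x) = x)
    (hX : ∀ (k : Fin (n / 2)) (t u : F), Param σ k t u → IsUJ σ (xMat σ k t u))
    (c : F) (k : Fin (n / 2)) (hk : 2 * k.val + 3 = n) (s : UG n σ) (hs : mat s = sMat c k)
    (b : UG n σ) (hb : b ∈ Bsub n σ) :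
    ∃ y x : UG n σ, b = y * x ∧ s * y * s⁻¹ ∈ Bsub n σ ∧ x ∈ Xset σ k :=
  Cfsg.Agent.Helper5.SuBN.R1III.exists_factor_III hσ hX c k hk s hs b hb

/-- (R2) a monomial matrix `m` or `s m` conjugates `X_k` into `B` -/
theorem conj_Xset_dichotomy (c : F) (k : Fin (n / 2)) (s : UG n σ) (hs : mat s = sMat c k)
    (m : UG n σ) (hm : m ∈ Mono n σ) :
    (∀ x ∈ Xset σ k, m⁻¹ * x * m ∈ Bsub n σ) ∨
      (∀ x ∈ Xset σ k, (s * m)⁻¹ * x * (s * m) ∈ Bsub n σ) :=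
  Cfsg.Agent.Helper76.SuBNR2.conj_Xset_dichotomy c k s hs m hm

/-- (R3-I) the rank one relation `s x s⁻¹ ∈ B s X_k`, first kind: `x₂ = x_k(t⁻¹, 0)` -/
theorem rank_one_I (hσ : ∀ x, σ (σ x) = x)
    (hX : ∀ (k : Fin (n / 2)) (t u : F), Param σ k t u → IsUJ σ (xMat σ k t u))
    (c : F) (k : Fin (n / 2)) (hk : 2 * k.val + 3 < n) (s : UG n σ) (hs : mat s = sMat c k)
    (x : UG n σ) (hx : x ∈ Xset σ k) (hx1 : x ≠ 1) :
    ∃ b₁ ∈ Bsub n σ, ∃ x₂ ∈ Xset σ k, s * x * s⁻¹ = b₁ * s * x₂ :=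
  Cfsg.Agent.Helper87.SuBNR3I.rank_one_I hσ hX c k hk s hs x hx hx1

/-- (R3-II) second kind: `x = x_k(0, u)`, `x₂ = x_k(0, -c²/u)` -/
theorem rank_one_II (hσ : ∀ x, σ (σ x) = x)
    (hX : ∀ (k : Fin (n / 2)) (t u : F), Param σ k t u → IsUJ σ (xMat σ k t u))
    (c : F) (hc0 : c ≠ 0) (hc : σ c = -c) (k : Fin (n / 2)) (hk : 2 * k.val + 2 = n) (s : UG n σ)
    (hs : mat s = sMat c k) (x : UG n σ) (hx : x ∈ Xset σ k) (hx1 : x ≠ 1) :
    ∃ b₁ ∈ Bsub n σ, ∃ x₂ ∈ Xset σ k, s * x * s⁻¹ = b₁ * s * x₂ :=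
  Cfsg.Agent.Helper87.SuBNR3II.rank_one_II hσ hX c hc0 hc k hk s hs x hx hx1

/-- (R3-III) third kind: `x = x_k(t, u)`, `x₂ = x_k(-t/u, 1/u)` -/
theorem rank_one_III (hσ : ∀ x, σ (σ x) = x)
    (hX : ∀ (k : Fin (n / 2)) (t u : F), Param σ k t u → IsUJ σ (xMat σ k t u))
    (c : F) (k : Fin (n / 2)) (hk : 2 * k.val + 3 = n) (s : UG n σ) (hs : mat s = sMat c k)
    (x : UG n σ) (hx : x ∈ Xset σ k) (hx1 : x ≠ 1) :
    ∃ b₁ ∈ Bsub n σ, ∃ x₂ ∈ Xset σ k, s * x * s⁻¹ = b₁ * s * x₂ :=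
  Cfsg.Agent.Helper31.SuBNR3III.rank_one_III hσ hX c k hk s hs x hx hx1

/-- (CN) -/
theorem conj_ne (hσ : ∀ x, σ (σ x) = x)
    (hX : ∀ (k : Fin (n / 2)) (t u : F), Param σ k t u → IsUJ σ (xMat σ k t u))
    (c : F) (hc0 : c ≠ 0) (hc : σ c = -c) (s : UG n σ) (hs : s ∈ Sset n σ c) :
    (fun b : UG n σ => s * b * s) '' (Bsub n σ : Set (UG n σ)) ≠ (Bsub n σ : Set (UG n σ)) :=
  Cfsg.Agent.Helper65.SuBNCN.conj_ne hσ hX c hc0 hc s hs

/-! #### generation -/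

/-- (L1) a matrix of `SUJ` whose first `n / 2` columns are upper triangular is upper triangular -/
theorem Pj_half_subset_Bsub (g : UG n σ) (hg : g ∈ Pj σ (n / 2)) : g ∈ Bsub n σ :=
  Cfsg.Agent.Helper24.SuBNL1.Pj_half_subset_Bsub g hg

/-- (STEP0) the last nonzero coordinate of an isotropic vector is not the middle one -/
theorem step_middle (A : ℕ) (hA : 2 * A + 1 = n) (v : Fin n → F) (hv : hermJ σ v v = 0)
    (hvA : ∀ a : Fin n, A < a.val → v a = 0) (a : Fin n) (ha : a.val = A) : v a = 0 :=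
  Cfsg.Agent.Helper24.SuBNSTEP0.step_middle A hA v hv hvA a ha

/-- (STEP1) the last nonzero coordinate `A` is in the first half: use `x ∈ X_{A-1}` and `s_{A-1}` -/
theorem step_first (hσ : ∀ x, σ (σ x) = x)
    (hX : ∀ (k : Fin (n / 2)) (t u : F), Param σ k t u → IsUJ σ (xMat σ k t u))
    (c : F) (hS : ∀ k : Fin (n / 2), IsUJ σ (sMat c k))
    (j A : ℕ) (hjA : j < A) (hA : 2 * A + 1 < n) (v : Fin n → F)
    (hvA : ∀ a : Fin n, A < a.val → v a = 0) (a : Fin n) (ha : a.val = A) (hva : v a ≠ 0) :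
    ∃ h ∈ Bsub n σ ⊔ Nsub n σ c, Fixj j h ∧ ∀ a : Fin n, A ≤ a.val → (mat h *ᵥ v) a = 0 :=
  Cfsg.Agent.Helper76.SuBNSTEP1.step_first hσ hX c hS j A hjA hA v hvA a ha hva

/-- (STEP2-I) the last nonzero coordinate `A` is in the second half and `k = n - 1 - A` is of the first kind -/
theorem step_second_I (hσ : ∀ x, σ (σ x) = x)
    (hX : ∀ (k : Fin (n / 2)) (t u : F), Param σ k t u → IsUJ σ (xMat σ k t u))
    (c : F) (hS : ∀ k : Fin (n / 2), IsUJ σ (sMat c k))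
    (j A : ℕ) (hA : A + j ≤ n - 1) (hAn : A < n) (hI : 2 * (n - 1 - A) + 3 < n) (v : Fin n → F)
    (hvA : ∀ a : Fin n, A < a.val → v a = 0) (a : Fin n) (ha : a.val = A) (hva : v a ≠ 0) :
    ∃ h ∈ Bsub n σ ⊔ Nsub n σ c, Fixj j h ∧ ∀ a : Fin n, A ≤ a.val → (mat h *ᵥ v) a = 0 :=
  Cfsg.Agent.Helper97.SuBNSTEP2I.step_second_I hσ hX c hS j A hA hAn hI v hvA a ha hva

/-- (STEP2-II) `n = 2k + 2`, `A = k + 1` -/
theorem step_second_II (hσ : ∀ x, σ (σ x) = x)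
    (hX : ∀ (k : Fin (n / 2)) (t u : F), Param σ k t u → IsUJ σ (xMat σ k t u))
    (c : F) (hS : ∀ k : Fin (n / 2), IsUJ σ (sMat c k))
    (j A : ℕ) (hA : A + j ≤ n - 1) (hAn : A < n) (hII : 2 * (n - 1 - A) + 2 = n) (v : Fin n → F)
    (hv : hermJ σ v v = 0)
    (hvA : ∀ a : Fin n, A < a.val → v a = 0) (a : Fin n) (ha : a.val = A) (hva : v a ≠ 0) :
    ∃ h ∈ Bsub n σ ⊔ Nsub n σ c, Fixj j h ∧ ∀ a : Fin n, A ≤ a.val → (mat h *ᵥ v) a = 0 :=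
  Cfsg.Agent.Helper97.SuBNSTEP2II.step_second_II hσ hX c hS j A hA hAn hII v hv hvA a ha hva

/-- (STEP2-III) `n = 2k + 3`, `A = k + 2` -/
theorem step_second_III (hσ : ∀ x, σ (σ x) = x)
    (hX : ∀ (k : Fin (n / 2)) (t u : F), Param σ k t u → IsUJ σ (xMat σ k t u))
    (c : F) (hS : ∀ k : Fin (n / 2), IsUJ σ (sMat c k))
    (j A : ℕ) (hA : A + j ≤ n - 1) (hAn : A < n) (hIII : 2 * (n - 1 - A) + 3 = n) (v : Fin n → F)
    (hv : hermJ σ v v = 0)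
    (hvA : ∀ a : Fin n, A < a.val → v a = 0) (a : Fin n) (ha : a.val = A) (hva : v a ≠ 0) :
    ∃ h ∈ Bsub n σ ⊔ Nsub n σ c, Fixj j h ∧ ∀ a : Fin n, A ≤ a.val → (mat h *ᵥ v) a = 0 :=
  Cfsg.Agent.Helper72.SuBNSTEP2III.step_second_III hσ hX c hS j A hA hAn hIII v hv hvA a ha hva

/-- (RED) reduction of an isotropic vector to the `j`-th basis vector modulo the first `j` ones -/
theorem exists_reduce (c : F)
    (hstep : ∀ (j A : ℕ), j < A → A + j ≤ n - 1 → ∀ v : Fin n → F, hermJ σ v v = 0 →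
      (∀ a : Fin n, A < a.val → v a = 0) → ∀ a : Fin n, a.val = A → v a ≠ 0 →
      ∃ h ∈ Bsub n σ ⊔ Nsub n σ c, Fixj j h ∧ ∀ a : Fin n, A ≤ a.val → (mat h *ᵥ v) a = 0)
    (j : ℕ) (hj : j < n / 2) (v : Fin n → F) (hv : hermJ σ v v = 0)
    (hv0 : ∀ a : Fin n, n - 1 - j < a.val → v a = 0) (hv1 : ∃ a : Fin n, j ≤ a.val ∧ v a ≠ 0) :
    ∃ h ∈ Bsub n σ ⊔ Nsub n σ c, Fixj j h ∧ ∀ a : Fin n, j < a.val → (mat h *ᵥ v) a = 0 :=
  Cfsg.Agent.Helper72.SuBNRED.exists_reduce c hstep j hj v hv hv0 hv1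

/-- (L2) one more column -/
theorem exists_mul_mem_Pj_succ (c : F)
    (hred : ∀ (j : ℕ), j < n / 2 → ∀ v : Fin n → F, hermJ σ v v = 0 →
      (∀ a : Fin n, n - 1 - j < a.val → v a = 0) → (∃ a : Fin n, j ≤ a.val ∧ v a ≠ 0) →
      ∃ h ∈ Bsub n σ ⊔ Nsub n σ c, Fixj j h ∧ ∀ a : Fin n, j < a.val → (mat h *ᵥ v) a = 0)
    (j : ℕ) (hj : j < n / 2) (g : UG n σ) (hg : g ∈ Pj σ j) :
    ∃ h ∈ Bsub n σ ⊔ Nsub n σ c, h * g ∈ Pj σ (j + 1) :=
  Cfsg.Agent.Helper23.SuBNL2.exists_mul_mem_Pj_succ c hred j hj g hg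

/-- (TOP) `B` and `N` generate -/
theorem sup_eq_top_of (c : F)
    (hL1 : ∀ g : UG n σ, g ∈ Pj σ (n / 2) → g ∈ Bsub n σ)
    (hL2 : ∀ (j : ℕ), j < n / 2 → ∀ g : UG n σ, g ∈ Pj σ j →
      ∃ h ∈ Bsub n σ ⊔ Nsub n σ c, h * g ∈ Pj σ (j + 1)) :
    Bsub n σ ⊔ Nsub n σ c = ⊤ :=
  Cfsg.Agent.Helper63.SuBNTOP.sup_eq_top_of c hL1 hL2

/-! ### assembly -/

section assembly

variable (hσ : ∀ x, σ (σ x) = x) (c : F) (hc0 : c ≠ 0) (hc : σ c = -c)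

include hσ in
theorem hX' : ∀ (k : Fin (n / 2)) (t u : F), Param σ k t u → IsUJ σ (xMat σ k t u) :=
  fun k t u h => xMat_isUJ hσ k t u h

include hc0 hc in
theorem hS' : ∀ k : Fin (n / 2), IsUJ σ (sMat c k) := fun k => sMat_isUJ c hc0 hc k

include hσ hc0 hc in
theorem step_all (j A : ℕ) (hjA : j < A) (hA : A + j ≤ n - 1) (v : Fin n → F)
    (hv : hermJ σ v v = 0) (hvA : ∀ a : Fin n, A < a.val → v a = 0) (a : Fin n) (ha : a.val = A)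
    (hva : v a ≠ 0) :
    ∃ h ∈ Bsub n σ ⊔ Nsub n σ c, Fixj j h ∧ ∀ a : Fin n, A ≤ a.val → (mat h *ᵥ v) a = 0 := by
  have han := a.2
  rcases lt_trichotomy (2 * A + 1) n with h1 | h1 | h1
  · exact step_first hσ (hX' hσ) c (hS' c hc0 hc) j A hjA h1 v hvA a ha hva
  · exact absurd (step_middle A h1 v hv hvA a ha) hva
  · have hAn : A < n := by omega
    rcases lt_trichotomy (2 * (n - 1 - A) + 3) n with h2 | h2 | h2
    · exact step_second_I hσ (hX' hσ) c (hS' c hc0 hc) j A hA hAn h2 v hvA a ha hva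
    · exact step_second_III hσ (hX' hσ) c (hS' c hc0 hc) j A hA hAn h2 v hv hvA a ha hva
    · have h3 : 2 * (n - 1 - A) + 2 = n := by omega
      exact step_second_II hσ (hX' hσ) c (hS' c hc0 hc) j A hA hAn h3 v hv hvA a ha hva

include hσ hc0 hc in
/-- (TOP) -/
theorem sup_eq_top : Bsub n σ ⊔ Nsub n σ c = ⊤ :=
  sup_eq_top_of c Pj_half_subset_Bsub
    (exists_mul_mem_Pj_succ c (exists_reduce c (step_all hσ c hc0 hc)))

theorem Nsub_le_Mono : Nsub n σ c ≤ Mono n σ := by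
  unfold Nsub
  rw [sup_le_iff, Subgroup.closure_le]
  exact ⟨Sset_subset_Mono c, Tsub_le_Mono⟩

theorem Bsub_inf_Nsub : Bsub n σ ⊓ Nsub n σ c = Tsub n σ := by
  apply le_antisymm
  · rw [← Bsub_inf_Mono]
    exact inf_le_inf_left _ (Nsub_le_Mono c)
  · exact le_inf Tsub_le_Bsub le_sup_right

include hσ hc0 hc in
theorem exists_factor (k : Fin (n / 2)) (s : UG n σ) (hs : mat s = sMat c k) (b : UG n σ)
    (hb : b ∈ Bsub n σ) :
    ∃ y x : UG n σ, b = y * x ∧ s * y * s⁻¹ ∈ Bsub n σ ∧ x ∈ Xset σ k := by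
  have hk := k.2
  rcases lt_trichotomy (2 * k.val + 3) n with h | h | h
  · exact exists_factor_I hσ (hX' hσ) c k h s hs b hb
  · exact exists_factor_III hσ (hX' hσ) c k h s hs b hb
  · exact exists_factor_II hσ (hX' hσ) c hc0 k (by omega) s hs b hb

include hσ hc0 hc in
theorem rank_one (k : Fin (n / 2)) (s : UG n σ) (hs : mat s = sMat c k) (x : UG n σ)
    (hx : x ∈ Xset σ k) (hx1 : x ≠ 1) :
    ∃ b₁ ∈ Bsub n σ, ∃ x₂ ∈ Xset σ k, s * x * s⁻¹ = b₁ * s * x₂ := by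
  have hk := k.2
  rcases lt_trichotomy (2 * k.val + 3) n with h | h | h
  · exact rank_one_I hσ (hX' hσ) c k h s hs x hx hx1
  · exact rank_one_III hσ (hX' hσ) c k h s hs x hx hx1
  · exact rank_one_II hσ (hX' hσ) c hc0 hc k (by omega) s hs x hx hx1

include hσ hc0 hc in
/-- the double coset axiom from the rank one data -/
theorem mul_mem_union (s : UG n σ) (hs : s ∈ Sset n σ c) (m : UG n σ) (hm : m ∈ Nsub n σ c)
    (b : UG n σ) (hb : b ∈ Bsub n σ) :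
    s * b * m ∈ DoubleCoset.doubleCoset (s * m) (Bsub n σ : Set (UG n σ)) (Bsub n σ) ∪
      DoubleCoset.doubleCoset m (Bsub n σ : Set (UG n σ)) (Bsub n σ) := by
  obtain ⟨k, hk⟩ := hs
  obtain ⟨y, x, rfl, hy, hx⟩ := exists_factor hσ c hc0 hc k s hk b hb
  have hmM := Nsub_le_Mono c hm
  by_cases hx1 : x = 1
  · subst hx1
    left
    rw [DoubleCoset.mem_doubleCoset]
    refine ⟨s * y * s⁻¹, hy, 1, (Bsub n σ).one_mem, ?_⟩
    group
  rcases conj_Xset_dichotomy c k s hk m hmM with h | h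
  · left
    rw [DoubleCoset.mem_doubleCoset]
    refine ⟨s * y * s⁻¹, hy, m⁻¹ * x * m, h x hx, ?_⟩
    group
  · right
    obtain ⟨b₁, hb₁, x₂, hx₂, he⟩ := rank_one hσ c hc0 hc k s hk x hx hx1
    have hss : s * s ∈ Bsub n σ := Tsub_le_Bsub (sq_mem_Tsub c s ⟨k, hk⟩)
    rw [DoubleCoset.mem_doubleCoset]
    refine ⟨s * y * s⁻¹ * b₁ * (s * s), (Bsub n σ).mul_mem ((Bsub n σ).mul_mem hy hb₁) hss,
      (s * m)⁻¹ * x₂ * (s * m), h x₂ hx₂, ?_⟩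
    have e : s * (y * x) * m = s * y * s⁻¹ * (s * x * s⁻¹) * s * m := by group
    rw [e, he]
    group

/-- **the (B,N)-pair of `SUJ n σ`** -/
noncomputable def bnPair : Cfsg.BNPair (UG n σ) where
  B := Bsub n σ
  N := Nsub n σ c
  S := Sset n σ c
  sup_eq_top := sup_eq_top hσ c hc0 hc
  conj_mem := by
    intro m hm t ht
    rw [Bsub_inf_Nsub] at ht
    exact Tsub_le_Bsub (conj_mem_Tsub m (Nsub_le_Mono c hm) t ht)
  subset := fun s hs => (le_sup_left : Subgroup.closure (Sset n σ c) ≤ Nsub n σ c)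
    (Subgroup.subset_closure hs)
  sq_mem := fun s hs => Tsub_le_Bsub (sq_mem_Tsub c s hs)
  inj := fun s hs s' hs' h => eq_of_inv_mul_mem c hc0 s s' hs hs' h
  closure_sup := by
    rw [Bsub_inf_Nsub]
    rfl
  mul_mem_union := fun s hs m hm b hb => mul_mem_union hσ c hc0 hc s hs m hm b hb
  conj_ne := fun s hs => conj_ne hσ (hX' hσ) c hc0 hc s hs

end assembly

end Cfsg.Agent.Helper5.SuBN.Pair
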