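import Mathlib
import Cfsg.Agent.Helper5.SuBN.Pair
import Cfsg.Agent.Helper5.SuBN.GenFix
import Cfsg.Agent.Helper5.SpBN.GenMax
import Cfsg.Agent.Helper19.StBN.Abstract
import Cfsg.Agent.Helper55.SpBNP11
import Cfsg.Agent.Helper55.SpBNP13
import Cfsg.Agent.Helper55.SpBNP14
import Cfsg.Agent.Helper80.Pullback
import Cfsg.Agent.Helper74.DefectZero
import Cfsg.Agent.Helper10.SuBNSIG
import Cfsg.Agent.Helper23.SuBNUN
import Cfsg.Agent.Helper35.SuBNLAM
import Cfsg.Agent.Helper35.SuBNZETA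
import Cfsg.Agent.Helper53.SuBNP12
import Cfsg.Agent.Helper55.SuBNTR1
import Cfsg.Agent.Helper55.SuBNTR2
import Cfsg.Agent.Helper63.SuBNMXb
import Cfsg.Agent.Helper65.SuBNBUT
import Cfsg.Agent.Helper65.SuBNP9

/-!
# The Steinberg character of `PSU_n(q)` (helper5, S2546)
-/

set_option autoImplicit false

namespace Cfsg.Agent.Helper5.SuBN.Main

open Matrix Cfsg Cfsg.Agent.Helper5.SuBN Cfsg.Agent.Helper5.SuBN.Pair
open Cfsg.Agent.Helper6 Cfsg.Agent.Helper19.Stein Cfsg.Agent.Helper19.StBN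

variable {F : Type*} [Field F] {n : ℕ} {σ : F →+* F}

/-! ### pieces -/

/-- (MXb) a monomial element moving every root group out of `B` reverses the order -/
theorem conj_mem_Bsub_iff_of_not (m : UG n σ) (hm : m ∈ Mono n σ)
    (h : ∀ k : Fin (n / 2), ¬ ∀ x ∈ Xset σ k, m * x * m⁻¹ ∈ Bsub n σ) (u : UG n σ)
    (hu : u ∈ Bsub n σ) : m⁻¹ * u * m ∈ Bsub n σ ↔ u ∈ Tsub n σ :=
  Cfsg.Agent.Helper63.SuBNMXb.conj_mem_Bsub_iff_of_not m hm h u hu

/-- (BUT) `B = U T` -/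
theorem exists_Usub_mul_Tsub (b : UG n σ) (hb : b ∈ Bsub n σ) :
    ∃ u ∈ Usub n σ, ∃ t ∈ Tsub n σ, b = u * t :=
  Cfsg.Agent.Helper65.SuBNBUT.exists_Usub_mul_Tsub b hb

/-- (UN) `U` is normal in `B` -/
theorem conj_mem_Usub (b : UG n σ) (hb : b ∈ Bsub n σ) (u : UG n σ) (hu : u ∈ Usub n σ) :
    b⁻¹ * u * b ∈ Usub n σ :=
  Cfsg.Agent.Helper23.SuBNUN.conj_mem_Usub b hb u hu

/-- (P9) `U` is a `p`-group -/
theorem Usub_isPGroup (p : ℕ) [Fact p.Prime] [CharP F p] : IsPGroup p (Usub n σ) :=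
  Cfsg.Agent.Helper65.SuBNP9.Usub_isPGroup p

/-- (P12) the order of the torus is prime to `p` -/
theorem not_dvd_card_Tsub [Fintype F] (p : ℕ) [Fact p.Prime] [CharP F p] :
    ¬ p ∣ Nat.card (Tsub n σ) :=
  Cfsg.Agent.Helper53.SuBNP12.not_dvd_card_Tsub p

/-- (SIG) the involution of the field with `q²` elements -/
theorem exists_sigma [Fintype F] (q : ℕ) (hF : Fintype.card F = q ^ 2) :
    ∃ σ : F →+* F, (∀ x, σ x = x ^ q) ∧ (∀ x, σ (σ x) = x) ∧ ∃ c : F, c ≠ 0 ∧ σ c = -c :=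
  Cfsg.Agent.Helper10.SuBNSIG.exists_sigma q hF

/-- (ZETA) an element of norm `-1` -/
theorem exists_zeta [Fintype F] (q : ℕ) (hF : Fintype.card F = q ^ 2) :
    ∃ ζ : F, ζ * ζ ^ q = -1 :=
  Cfsg.Agent.Helper35.SuBNZETA.exists_zeta q hF

/-- (LAM) an element of trace `-1` -/
theorem exists_lambda [Fintype F] (q : ℕ) (hF : Fintype.card F = q ^ 2) :
    ∃ l : F, l + l ^ q = -1 :=
  Cfsg.Agent.Helper35.SuBNLAM.exists_lambda q hF

/-- (TR1) a basis of `F^n` in which the standard hermitian form becomes the antidiagonal one -/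
theorem exists_basis_change (ζ l : F) (hζ : ζ * σ ζ = -1) (hl : l + σ l = -1) (n : ℕ) :
    ∃ C : Matrix (Fin n) (Fin n) F,
      ∀ a b : Fin n, ∑ i, C i a * σ (C i b) = if a = Fin.rev b then 1 else 0 :=
  Cfsg.Agent.Helper55.SuBNTR1.exists_basis_change ζ l hζ hl n

/-- (TR2) the two special unitary groups are isomorphic -/
theorem nonempty_mulEquiv_SU (q : ℕ) (hσq : ∀ x, σ x = x ^ q)
    (C : Matrix (Fin n) (Fin n) F)
    (hCJ : ∀ a b : Fin n, ∑ i, C i a * σ (C i b) = if a = Fin.rev b then 1 else 0) :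
    Nonempty (UG n σ ≃* ↥(Cfsg.SU n F q)) :=
  Cfsg.Agent.Helper55.SuBNTR2.nonempty_mulEquiv_SU q hσq C hCJ

/-! ### assembly -/

theorem Usub_inf_Tsub (g : UG n σ) (hU : g ∈ Usub n σ) (hT : g ∈ Tsub n σ) : g = 1 := by
  apply mat_injective
  ext a b
  rw [mat_one]
  by_cases hab : a = b
  · subst hab
    rw [hU.2, Matrix.one_apply_eq]
  · rw [hT a b hab, Matrix.one_apply_ne hab]

theorem finite_Sset (c : F) (hc0 : c ≠ 0) : Finite ↥(Sset n σ c) := by
  classical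
  let f : ↥(Sset n σ c) → Fin (n / 2) := fun s => Classical.choose s.2
  have hf : ∀ s : ↥(Sset n σ c), mat s.1 = sMat c (f s) := fun s => Classical.choose_spec s.2
  apply Finite.of_injective f
  intro s s' h
  apply Subtype.ext
  apply mat_injective
  rw [hf s, hf s', h]

section

variable [Fintype F] (hσ : ∀ x, σ (σ x) = x) (c : F) (hc0 : c ≠ 0) (hc : σ c = -c)

instance : Finite (UG n σ) := inferInstance

include hσ hc0 hc in
/-- the Steinberg character of `SUJ n σ` -/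
theorem steinberg_UG (p : ℕ) [Fact p.Prime] [CharP F p] :
    ∃ χ : UG n σ → ℂ, IsIrrCharacter (UG n σ) χ ∧
      (∀ z ∈ Subgroup.center (UG n σ), χ z = χ 1) ∧
      (∀ Q : Sylow p (UG n σ), χ 1 = Nat.card Q) ∧
      ¬ p ∣ Nat.card (Subgroup.center (UG n σ)) := by
  classical
  have : Finite ↥(bnPair (n := n) hσ c hc0 hc).S := finite_Sset (n := n) (σ := σ) c hc0
  have : Fintype ↥(bnPair (n := n) hσ c hc0 hc).S := Fintype.ofFinite _
  set P' : Cfsg.BNPair (UG n σ) := bnPair (n := n) hσ c hc0 hc with hP'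
  -- the root data
  have hdec : ∀ s : P'.S, ∀ b ∈ P'.B, ∃ y x : UG n σ, b = y * x ∧ s.1 * y * s.1⁻¹ ∈ P'.B ∧
      x ∈ Xset σ (Classical.choose s.2) :=
    fun s b hb => exists_factor hσ c hc0 hc (Classical.choose s.2) s.1 (Classical.choose_spec s.2) b hb
  -- the longest element
  obtain ⟨n₀, hn₀, hmax, hnot⟩ := Cfsg.Agent.Helper5.SpBN.exists_maxR_not_conj P'
    (fun s => Xset σ (Classical.choose s.2)) hdec
  have hnot' : ∀ k : Fin (n / 2), ¬ ∀ x ∈ Xset σ k, n₀ * x * n₀⁻¹ ∈ Bsub n σ := by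
    intro k hk
    obtain ⟨s, hs⟩ := exists_of_isUJ (sMat_isUJ (σ := σ) c hc0 hc k)
    have hsS : s ∈ Sset n σ c := ⟨k, hs⟩
    apply hnot ⟨s, hsS⟩
    have hkk : Classical.choose (⟨s, hsS⟩ : ↥P'.S).2 = k :=
      sMat_injective c hc0 ((Classical.choose_spec (⟨s, hsS⟩ : ↥P'.S).2).symm.trans hs)
    rw [hkk]
    exact hk
  have hH : ∀ u ∈ P'.B, n₀⁻¹ * u * n₀ ∈ P'.B ↔ u ∈ Tsub n σ := fun u hu =>
    conj_mem_Bsub_iff_of_not n₀ (Nsub_le_Mono c hn₀) hnot' u hu
  -- the Sylow subgroups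
  have h10 : ∀ g : UG n σ, (∀ u ∈ Usub n σ, g⁻¹ * u * g ∈ Bsub n σ) → g ∈ Bsub n σ :=
    fun g hg => mem_B_of_conj_gen P' (fun s => Xset σ (Classical.choose s.2)) hdec (Usub n σ)
      (fun b hb u hu => conj_mem_Usub b hb u hu) (fun s => Xset_subset_Usub _) g hg
  have h11 : ¬ p ∣ (Bsub n σ).index :=
    Cfsg.Agent.Helper55.SpBNP11.not_dvd_index_of_fixed p (Usub n σ) (Bsub n σ) Usub_le_Bsub
      (Usub_isPGroup p) h10
  have h13 : ∃ k : ℕ, ((Tsub n σ).subgroupOf (Bsub n σ)).index = p ^ k := by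
    obtain ⟨k, hk⟩ := (IsPGroup.iff_card (p := p) (G := Usub n σ)).mp (Usub_isPGroup p)
    refine ⟨k, ?_⟩
    rw [Cfsg.Agent.Helper55.SpBNP13.index_subgroupOf_eq_card (Usub n σ) (Tsub n σ) (Bsub n σ)
      Usub_le_Bsub Tsub_le_Bsub (fun b hb => exists_Usub_mul_Tsub b hb)
      (fun g hu ht => Usub_inf_Tsub g hu ht), hk]
  have hsyl : ∀ Q : Sylow p (UG n σ), Nat.card Q = ((Tsub n σ).subgroupOf (Bsub n σ)).index :=
    fun Q => Cfsg.Agent.Helper55.SpBNP14.card_sylow_of_chain p (Tsub n σ) (Bsub n σ) Tsub_le_Bsub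
      h11 (not_dvd_card_Tsub p) h13 Q
  -- the centre lies in the torus
  have hcen : Subgroup.center (UG n σ) ≤ Tsub n σ := by
    intro z hz
    have hzc : ∀ g : UG n σ, g * z = z * g := fun g => Subgroup.mem_center_iff.1 hz g
    have hzB : z ∈ Bsub n σ := by
      apply h10 z
      intro u hu
      have : z⁻¹ * u * z = u := by rw [mul_assoc, hzc u, ← mul_assoc, inv_mul_cancel, one_mul]
      rw [this]
      exact Usub_le_Bsub hu
    apply (hH z hzB).1
    have : n₀⁻¹ * z * n₀ = z := by rw [mul_assoc, ← hzc n₀, ← mul_assoc, inv_mul_cancel, one_mul]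
    rw [this]
    exact hzB
  refine ⟨stFun P', stFun_isIrr P' n₀ hn₀ hmax (Tsub n σ) hH, ?_, ?_, ?_⟩
  · intro z hz
    exact stFun_central P' hz (Tsub_le_Bsub (hcen hz))
  · intro Q
    rw [stFun_one P' n₀ hn₀ hmax (Tsub n σ) hH, hsyl Q]
    rfl
  · intro hdvd
    exact not_dvd_card_Tsub (σ := σ) (n := n) p
      (hdvd.trans (Subgroup.card_dvd_of_le hcen))

end

/-- transport along an isomorphism and descent to the central quotient -/
theorem steinberg_of_mulEquiv {G H : Type*} [Group G] [Group H] [Finite G] (e : G ≃* H)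
    (p : ℕ) [hp : Fact p.Prime]
    (h : ∃ χ : G → ℂ, IsIrrCharacter G χ ∧ (∀ z ∈ Subgroup.center G, χ z = χ 1) ∧
      (∀ Q : Sylow p G, χ 1 = Nat.card Q) ∧ ¬ p ∣ Nat.card (Subgroup.center G)) :
    ∃ χ : H ⧸ Subgroup.center H → ℂ, IsIrrCharacter (H ⧸ Subgroup.center H) χ ∧
      ∀ P : Sylow p (H ⧸ Subgroup.center H), χ 1 = Nat.card P ∧
        ∀ x : H ⧸ Subgroup.center H, x ∈ P → x ≠ 1 → χ x = 0 := by
  classical
  have : Finite H := Finite.of_equiv G e.toEquiv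
  have : Fintype (H ⧸ Subgroup.center H) := Fintype.ofFinite _
  obtain ⟨χ, hχ, hcent, hdeg, hz⟩ := h
  let f : G →* H ⧸ Subgroup.center H := (QuotientGroup.mk' (Subgroup.center H)).comp e.toMonoidHom
  have hf : Function.Surjective f :=
    (QuotientGroup.mk'_surjective _).comp e.surjective
  have hker : ∀ g : G, f g = 1 → g ∈ Subgroup.center G := by
    intro g hg
    have h1 : e g ∈ Subgroup.center H := by
      have : (QuotientGroup.mk' (Subgroup.center H)) (e g) = 1 := hg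
      rwa [QuotientGroup.mk'_apply, QuotientGroup.eq_one_iff] at this
    rw [Subgroup.mem_center_iff] at h1 ⊢
    intro x
    apply e.injective
    rw [map_mul, map_mul]
    exact h1 (e x)
  obtain ⟨ψ, hψ, hval⟩ := Cfsg.Agent.Helper80.IsIrrCharacter.exists_descend hχ f hf
    (fun g hg => hcent g (hker g hg))
  refine ⟨ψ, hψ, fun P => ?_⟩
  obtain ⟨Q⟩ : Nonempty (Sylow p G) := inferInstance
  -- cardinalities
  have hcardGH : Nat.card G = Nat.card H := Nat.card_congr e.toEquiv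
  have hcen : Nat.card (Subgroup.center G) = Nat.card (Subgroup.center H) := by
    apply Nat.card_congr
    exact (Subgroup.centerCongr e).toEquiv
  have hPQ : Nat.card P = Nat.card Q := by
    rw [Sylow.card_eq_multiplicity, Sylow.card_eq_multiplicity]
    have h1 := Subgroup.card_eq_card_quotient_mul_card_subgroup (Subgroup.center H)
    have hzH : ¬ p ∣ Nat.card (Subgroup.center H) := by rwa [← hcen]
    rw [hcardGH, h1, Nat.factorization_mul Nat.card_pos.ne' Nat.card_pos.ne', Finsupp.add_apply,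
      Nat.factorization_eq_zero_of_not_dvd hzH, add_zero]
  have h1' : ψ 1 = (Nat.card P : ℂ) := by
    have h := hval 1
    rw [map_one] at h
    rw [← h, hdeg Q, hPQ]
  refine ⟨h1', fun x hx hx1 => ?_⟩
  have hdeg' : charDegree ψ = Nat.card P := by
    have := Cfsg.Agent.Helper74.charDegree_cast (Cfsg.Agent.Helper74.isCharacter_of_isIrr hψ)
    rw [h1'] at this
    exact_mod_cast this
  have hdiv : p ^ (Nat.card (H ⧸ Subgroup.center H)).factorization p ∣ charDegree ψ := by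
    rw [hdeg', Sylow.card_eq_multiplicity]
  have hy : p ∣ orderOf x := by
    obtain ⟨k, hk⟩ := (IsPGroup.iff_orderOf.1 P.isPGroup') ⟨x, hx⟩
    rw [Subgroup.orderOf_mk] at hk
    rw [hk]
    have hk0 : k ≠ 0 := by
      rintro rfl
      rw [pow_zero, orderOf_eq_one_iff] at hk
      exact hx1 hk
    exact dvd_pow_self p hk0
  exact Cfsg.Agent.Helper74.irr_eq_zero_of_defect_zero ⟨ψ, hψ⟩ hp.out hdiv x hy

end Cfsg.Agent.Helper5.SuBN.Main

namespace Cfsg.Agent.Helper5.SuBN.Main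

open Cfsg Cfsg.Agent.Helper5.SuBN Cfsg.Agent.Helper5.SuBN.Main

theorem steinberg_PSU {F : Type*} [Field F] [Fintype F] (p : ℕ) [Fact p.Prime] [CharP F p] (n q : ℕ) (hn : 2 ≤ n) (hF : Fintype.card F = q ^ 2) : ∃ χ : Cfsg.PSU n F q → ℂ, Cfsg.IsIrrCharacter (Cfsg.PSU n F q) χ ∧ ∀ P : Sylow p (Cfsg.PSU n F q), χ 1 = Nat.card P ∧ ∀ x : Cfsg.PSU n F q, x ∈ P → x ≠ 1 → χ x = 0 := by
  obtain ⟨σ, hσq, hσ, c, hc0, hc⟩ := exists_sigma (F := F) q hF
  obtain ⟨ζ, hζ⟩ := exists_zeta (F := F) q hF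
  obtain ⟨l, hl⟩ := exists_lambda (F := F) q hF
  obtain ⟨C, hCJ⟩ := exists_basis_change (σ := σ) ζ l (by rw [hσq]; exact hζ) (by rw [hσq]; exact hl) n
  obtain ⟨e⟩ := nonempty_mulEquiv_SU (σ := σ) q hσq C hCJ
  exact steinberg_of_mulEquiv e p (steinberg_UG hσ c hc0 hc p)

end Cfsg.Agent.Helper5.SuBN.Main
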